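import Groth.Agent.TrivPts49.Space
import Groth.Agent.AlgStLib.Bootstrap
import Groth.Agent.AlgStLib.DiagLFT
import Groth.Agent.AlgStLib.SmoothBootstrap
import Groth.Agent.AlgStLib.SelfProd
import Groth.Agent.AlgStLib.RepDiag
import Groth.Agent.AlgSpLib.LocalSourceInst
import Groth.Agent.AlgStLib.Yoneda
import Groth.Agent.FibBase.DiagRep
import Groth.Agent.FibBase.Setoid

/-!
# Stacks with trivial geometric stabilisers are fibred in setoids
-/

set_option autoImplicit false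
set_option backward.isDefEq.respectTransparency false
set_option backward.isDefEq.respectTransparency.types false
set_option linter.unusedVariables false

universe u

open CategoryTheory CategoryTheory.Functor CategoryTheory.Limits Opposite AlgebraicGeometry AlgSp
  Groth.Agent.FibBase Groth.Agent.AlgSpLib Groth.Agent.AlgStLib

namespace Groth.Agent.TrivPts49

variable {S : Scheme.{u}} {𝒳 𝒴 : AlgSt.Cat S}

/-- Objects over schemes over a geometric point have no automorphisms over the identity. -/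
def TrivGeom (𝒳 : AlgSt.Cat S) : Prop :=
  ∀ (k : Type u) [Field k] [IsAlgClosed k] (sk : Spec (CommRingCat.of k) ⟶ S)
    (x : FibCat.overCat (Over.mk sk) ⥤ᵇ 𝒳) (T : Over (Over.mk sk)) (α : x.obj T ⟶ x.obj T),
    𝒳.p.IsHomLift (𝟙 T.left) α → α = 𝟙 _

/-- Automorphisms over the identity of an object killed by `f` are trivial. -/
def TrivAt (f : 𝒳 ⥤ᵇ 𝒴) {U : Over S} (x : FibCat.overCat U ⥤ᵇ 𝒳) (a : Over U) : Prop :=
  ∀ α : x.obj a ⟶ x.obj a, 𝒳.p.IsHomLift (𝟙 a.left) α → f.map α = 𝟙 _ → α = 𝟙 _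

/-- The kernel of `f` on automorphisms is trivial at geometric points. -/
def TrivPt (f : 𝒳 ⥤ᵇ 𝒴) : Prop :=
  ∀ (k : Type u) [Field k] [IsAlgClosed k] (sk : Spec (CommRingCat.of k) ⟶ S) (ξ : 𝒳.obj)
    (hξ : 𝒳.p.obj ξ = Over.mk sk) (α : ξ ⟶ ξ), 𝒳.p.IsHomLift (𝟙 (𝒳.p.obj ξ)) α → f.map α = 𝟙 _ → α = 𝟙 _

variable {U : Over S} {x : FibCat.overCat U ⥤ᵇ 𝒳} {F : Sp S} {f : 𝒳 ⥤ᵇ 𝒴}

theorem trivAt_of_geom (H : TrivGeom 𝒳) {k : Type u} [Field k] [IsAlgClosed k] (u : Spec (CommRingCat.of k) ⟶ U.left)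
    {W : Over S} (g : W.left ⟶ Spec (CommRingCat.of k)) (t : W ⟶ U) (ht : t.left = g ≫ u)
    (α : x.obj (Over.mk t) ⟶ x.obj (Over.mk t)) (hα : 𝒳.p.IsHomLift (𝟙 W) α) : α = 𝟙 _ := by
  let uh : Over.mk (u ≫ U.hom) ⟶ U := Over.homMk u rfl
  let gh : W ⟶ Over.mk (u ≫ U.hom) := Over.homMk g (by
    show g ≫ u ≫ U.hom = _
    rw [← Over.w t, ht, Category.assoc])
  have e : gh ≫ uh = t := (Over.OverMorphism.ext ht).symm
  revert α hα
  rw [← e]
  intro α hα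
  exact H k (u ≫ U.hom) (BasedFunctor.comp (AlgSt.overMap uh) x) (Over.mk gh) α hα

local notation "pr" f:max x:max => FibCat.fpFst (FibCat.fpLift x x (Iso.refl _)) (FibCat.diag f)

theorem fst_eq_snd (θ : (FibCat.fp (FibCat.fpLift x x (Iso.refl (BasedFunctor.comp x f))) (FibCat.diag f)).obj)
    (H : TrivAt f x θ.obj.fst) : θ.obj.iso.hom.hom.fst = θ.obj.iso.hom.hom.snd := by
  obtain ⟨⟨a, z, i⟩, hi⟩ := θ
  have hi' : (FibCat.fp f f).p.IsHomLift (𝟙 a.left) i.hom := hi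
  have hif : 𝒳.p.IsHomLift (𝟙 a.left) i.hom.hom.fst :=
    (FibCat.fpFst f f).preserves_isHomLift (𝟙 a.left) i.hom
  have his : 𝒳.p.IsHomLift (𝟙 a.left) i.inv.hom.snd := by
    have := IsHomLift.lift_id_inv (FibCat.fp f f).p a.left i
    exact fp_isHomLift_snd' (F := f) (G := f) (𝟙 a.left) i.inv (h := this)
  let m : x.obj a ⟶ x.obj a := i.hom.hom.fst ≫ i.inv.hom.snd
  have hm : 𝒳.p.IsHomLift (𝟙 a.left) m :=
    inferInstanceAs (𝒳.p.IsHomLift (𝟙 a.left) (i.hom.hom.fst ≫ i.inv.hom.snd))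
  have e'' : i.hom.hom.snd ≫ i.inv.hom.snd = 𝟙 _ := congrArg (fun t => t.hom.snd) i.hom_inv_id
  have hw : f.map i.hom.hom.fst ≫ 𝟙 _ = 𝟙 _ ≫ f.map i.hom.hom.snd := i.hom.hom.w
  have hf : f.map m = 𝟙 _ := by
    have h1 : f.map i.hom.hom.fst = f.map i.hom.hom.snd :=
      ((Category.comp_id _).symm.trans hw).trans (Category.id_comp _)
    refine (f.toFunctor.map_comp _ _).trans ?_
    refine (congrArg (· ≫ _) h1).trans ?_
    exact ((f.toFunctor.map_comp _ _).symm.trans (congrArg f.map e'')).trans (f.toFunctor.map_id _)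
  have e : m = 𝟙 _ := H m hm hf
  have e' : i.inv.hom.snd ≫ i.hom.hom.snd = 𝟙 _ := congrArg (fun t => t.hom.snd) i.inv_hom_id
  show i.hom.hom.fst = i.hom.hom.snd
  calc i.hom.hom.fst = i.hom.hom.fst ≫ i.inv.hom.snd ≫ i.hom.hom.snd := by rw [e']; exact (Category.comp_id _).symm
    _ = m ≫ i.hom.hom.snd := (Category.assoc _ _ _).symm
    _ = i.hom.hom.snd := by rw [e]; exact Category.id_comp _

theorem sections_eq (e : AlgSt.ofSp F ⥤ᵇ FibCat.fp (FibCat.fpLift x x (Iso.refl (BasedFunctor.comp x f))) (FibCat.diag f))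
    (he : FibCat.IsEquivOver e) {W : Over S} (s s' : (yon S).obj W ⟶ F) (t : W ⟶ U)
    (hs : s ≫ AlgSt.spMapOfOver (BasedFunctor.comp e (pr f x)) = (yon S).map t)
    (hs' : s' ≫ AlgSt.spMapOfOver (BasedFunctor.comp e (pr f x)) = (yon S).map t)
    (H : ∀ (a : Over U) (h : a.left = W), a.hom = eqToHom h ≫ t → TrivAt f x a) : s = s' := by
  have := full_of_isEquivOver he
  let Φ := BasedFunctor.comp e (pr f x)
  let p : (AlgSt.ofSp F).obj := ⟨W, (J S).uliftYonedaEquiv.{u + 1} s⟩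
  let p' : (AlgSt.ofSp F).obj := ⟨W, (J S).uliftYonedaEquiv.{u + 1} s'⟩
  have hsec : AlgSt.secHom Φ p = t := congrArg ULift.down
    (((((J S).uliftYonedaEquiv_comp s (AlgSt.spMapOfOver Φ)).symm.trans
      (congrArg (J S).uliftYonedaEquiv.{u + 1} hs))).trans (congrArg ULift.up (Category.id_comp t)))
  have hsec' : AlgSt.secHom Φ p' = t := congrArg ULift.down
    (((((J S).uliftYonedaEquiv_comp s' (AlgSt.spMapOfOver Φ)).symm.trans
      (congrArg (J S).uliftYonedaEquiv.{u + 1} hs'))).trans (congrArg ULift.up (Category.id_comp t)))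
  have hl : (Φ.obj p).left = W := Φ.w_obj p
  have hl' : (Φ.obj p').left = W := Φ.w_obj p'
  have ha : (Φ.obj p).hom = eqToHom hl ≫ t := by
    rw [← hsec]; simp [AlgSt.secHom]
  have ha' : (Φ.obj p').hom = eqToHom hl' ≫ t := by
    rw [← hsec']; simp [AlgSt.secHom]
  have h₀ : (e.obj p).obj.iso.hom.hom.fst = (e.obj p).obj.iso.hom.hom.snd :=
    fst_eq_snd (e.obj p) (H (Φ.obj p) hl ha)
  have h₁ : (e.obj p').obj.iso.hom.hom.fst = (e.obj p').obj.iso.hom.hom.snd :=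
    fst_eq_snd (e.obj p') (H (Φ.obj p') hl' ha')
  let f0 : Φ.obj p ⟶ Φ.obj p' := Over.homMk (eqToHom (hl.trans hl'.symm)) (by
    rw [ha, ha']; simp)
  let ι := (e.obj p).obj.iso
  let ι' := (e.obj p').obj.iso
  have hfi : ι.hom.hom.fst ≫ ι.inv.hom.fst = 𝟙 _ := congrArg (fun t => t.hom.fst) ι.hom_inv_id
  let μ : e.obj p ⟶ e.obj p' := ObjectProperty.homMk
    { fst := f0
      snd := ι.inv.hom.fst ≫ x.map f0 ≫ ι'.hom.hom.fst
      w := by
        refine ObjectProperty.hom_ext _ (CategoricalPullback.hom_ext ?_ ?_)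
        · show x.map f0 ≫ ι'.hom.hom.fst = ι.hom.hom.fst ≫ ι.inv.hom.fst ≫ x.map f0 ≫ ι'.hom.hom.fst
          exact ((Category.id_comp _).symm.trans (congrArg (· ≫ _) hfi.symm)).trans (Category.assoc _ _ _)
        · show x.map f0 ≫ ι'.hom.hom.snd = ι.hom.hom.snd ≫ ι.inv.hom.fst ≫ x.map f0 ≫ ι'.hom.hom.fst
          rw [← h₀, ← h₁]
          exact ((Category.id_comp _).symm.trans (congrArg (· ≫ _) hfi.symm)).trans (Category.assoc _ _ _) }
  obtain ⟨ν, hν⟩ := e.toFunctor.map_surjective μ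
  have e1 : (Φ.map ν).left = eqToHom hl ≫ ν.hom ≫ eqToHom hl'.symm := Functor.congr_hom Φ.w ν
  have e2 : Φ.map ν = f0 := congrArg (fun t => t.hom.fst) hν
  have e3 : ν.hom = 𝟙 W := by
    rw [e2] at e1
    have : eqToHom hl ≫ 𝟙 W ≫ eqToHom hl'.symm = eqToHom hl ≫ ν.hom ≫ eqToHom hl'.symm := by
      rw [← e1]; simp [f0]
    exact ((cancel_mono _).1 ((cancel_epi _).1 this)).symm
  refine (J S).uliftYonedaEquiv.{u + 1}.injective ?_
  have h := ν.map_sec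
  rw [e3] at h
  refine Eq.trans h.symm ?_
  erw [op_id, Functor.map_id_apply]

theorem full_of_mono (Φ : AlgSt.ofSp F ⥤ᵇ FibCat.overCat U) [Mono (AlgSt.spMapOfOver Φ)] :
    Φ.toFunctor.Full := ⟨fun {p p'} r => by
  have hl : (Φ.obj p).left = p.base := Φ.w_obj p
  have hl' : (Φ.obj p').left = p'.base := Φ.w_obj p'
  let h : p.base ⟶ p'.base := eqToHom hl.symm ≫ r.left ≫ eqToHom hl'
  have hs : F.obj.map h.op p'.sec = p.sec := by
    obtain ⟨a, hsa⟩ := (J S).uliftYonedaEquiv.{u + 1}.surjective (F.obj.map h.op p'.sec)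
    obtain ⟨b, hsb⟩ := (J S).uliftYonedaEquiv.{u + 1}.surjective p.sec
    rw [← hsa, ← hsb]
    refine congrArg _ ((cancel_mono (AlgSt.spMapOfOver Φ)).1 ((J S).uliftYonedaEquiv.{u + 1}.injective ?_))
    rw [GrothendieckTopology.uliftYonedaEquiv_comp, GrothendieckTopology.uliftYonedaEquiv_comp, hsa, hsb]
    refine (NatTrans.naturality_apply (AlgSt.spMapOfOver Φ).hom h.op p'.sec).trans ?_
    refine congrArg ULift.up ?_
    show h ≫ eqToHom _ ≫ (Φ.obj p').hom = eqToHom _ ≫ (Φ.obj p).hom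
    rw [← Over.w r]
    simp [h]
  refine ⟨⟨h, hs⟩, Over.OverMorphism.ext ?_⟩
  refine (Functor.congr_hom Φ.w (⟨h, hs⟩ : p ⟶ p')).trans ?_
  show eqToHom _ ≫ h ≫ eqToHom _ = r.left
  simp [h]⟩

theorem eq_id_of_mono (hg : FibCat.IsFibGrpd 𝒳.p)
    (e : AlgSt.ofSp F ⥤ᵇ FibCat.fp (FibCat.fpLift x x (Iso.refl (BasedFunctor.comp x f))) (FibCat.diag f))
    (he : FibCat.IsEquivOver e) [Mono (AlgSt.spMapOfOver (BasedFunctor.comp e (pr f x)))]
    (α : x.obj (Over.mk (𝟙 U)) ⟶ x.obj (Over.mk (𝟙 U))) (hα : 𝒳.p.IsHomLift (𝟙 U) α) (hf : f.map α = 𝟙 _) : α = 𝟙 _ := by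
  let a : Over U := Over.mk (𝟙 U)
  let y := FibCat.fpLift x x (Iso.refl (BasedFunctor.comp x f))
  let z : 𝒳.obj := x.obj a
  have hid : 𝒳.p.IsHomLift (𝟙 U) (𝟙 z) := IsHomLift.id (x.w_obj a)
  have : IsIso α := isIso_of_lift (hp := hg) (𝟙 U) α
  let θ : ∀ (β : z ≅ z), 𝒳.p.IsHomLift (𝟙 U) β.hom → f.map β.hom = 𝟙 _ →
      (FibCat.fp y (FibCat.diag f)).obj := fun β hβ hfβ =>
    ⟨⟨a, z, fpIsoMk (x := y.obj a) (y := (FibCat.diag f).obj z) (Iso.refl _) β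
      (by show f.map (𝟙 z) ≫ 𝟙 _ = 𝟙 _ ≫ f.map β.hom; rw [hfβ, f.toFunctor.map_id])⟩,
      fp_isHomLift (F := f) (G := f) (𝟙 U) _ (h := hid)⟩
  let θ₀ := θ (Iso.refl _) hid (f.toFunctor.map_id _)
  let θ₁ := θ (asIso α) hα hf
  obtain ⟨G, -, -, ⟨j⟩⟩ := isEquivOver_inv he
  have := full_of_mono (BasedFunctor.comp e (pr f x))
  let i₀ := isoApp j θ₀
  let i₁ := isoApp j θ₁
  let Φ := BasedFunctor.comp e (pr f x)
  obtain ⟨ν, hν⟩ := Φ.toFunctor.map_surjective (X := G.obj θ₀) (Y := G.obj θ₁)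
    (i₀.hom.hom.fst ≫ 𝟙 a ≫ i₁.inv.hom.fst)
  let μ : θ₀ ⟶ θ₁ := i₀.inv ≫ e.map ν ≫ i₁.hom
  have hμ : μ.hom.fst = 𝟙 a := by
    show i₀.inv.hom.fst ≫ Φ.map ν ≫ i₁.hom.hom.fst = 𝟙 a
    have h0 : i₀.inv.hom.fst ≫ i₀.hom.hom.fst = 𝟙 a := congrArg (fun t => t.hom.fst) i₀.inv_hom_id
    have h1 : i₁.inv.hom.fst ≫ i₁.hom.hom.fst = 𝟙 a := congrArg (fun t => t.hom.fst) i₁.inv_hom_id
    exact (congrArg (fun t => i₀.inv.hom.fst ≫ t ≫ i₁.hom.hom.fst) hν).trans (by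
      simp only [Category.assoc, Category.id_comp]
      exact (congrArg (fun t => i₀.inv.hom.fst ≫ i₀.hom.hom.fst ≫ t) h1).trans
        ((congrArg (i₀.inv.hom.fst ≫ ·) (Category.comp_id _)).trans h0))
  have w := μ.hom.w
  have w₁ : x.map μ.hom.fst ≫ 𝟙 z = 𝟙 z ≫ μ.hom.snd := congrArg (fun t => t.hom.fst) w
  have w₂ : x.map μ.hom.fst ≫ α = 𝟙 z ≫ μ.hom.snd := congrArg (fun t => t.hom.snd) w
  have hx : x.map μ.hom.fst = 𝟙 z := (congrArg x.map hμ).trans (x.toFunctor.map_id a)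
  rw [← w₁, hx] at w₂
  exact ((Category.id_comp α).symm.trans w₂).trans (Category.id_comp _)

/-- A functor is faithful if, for all objects over schemes, the kernel on automorphisms is trivial. -/
theorem eq_id_of_rep (hg : FibCat.IsFibGrpd 𝒳.p) {P : MorphismProperty (Sp S)}
    (hΔ : AlgSt.RepByAlgSpWith P (FibCat.diag f))
    (hmono : ∀ {U : Over S} {x : FibCat.overCat U ⥤ᵇ 𝒳} (F : AlgSp.Space S)
      (e : AlgSt.ofSp F.obj ⥤ᵇ FibCat.fp (FibCat.fpLift x x (Iso.refl (BasedFunctor.comp x f))) (FibCat.diag f)),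
      FibCat.IsEquivOver e → P (AlgSt.spMapOfOver (BasedFunctor.comp e (pr f x))) →
      Mono (AlgSt.spMapOfOver (BasedFunctor.comp e (pr f x))))
    {U : Over S} (c : 𝒳.obj) (hc : 𝒳.p.obj c = U) (χ : c ⟶ c) (hχ : 𝒳.p.IsHomLift (𝟙 U) χ)
    (hfχ : f.map χ = 𝟙 _) : χ = 𝟙 c := by
  obtain ⟨x, i, hi⟩ := exists_overCat_obj hg c hc
  have : 𝒳.p.IsHomLift (𝟙 U) i.inv := IsHomLift.lift_id_inv 𝒳.p _ i
  let t := i.hom ≫ χ ≫ i.inv
  have ht : 𝒳.p.IsHomLift (𝟙 U) t := inferInstanceAs (𝒳.p.IsHomLift (𝟙 U) (i.hom ≫ χ ≫ i.inv))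
  have hft : f.map t = 𝟙 _ := by
    refine (f.toFunctor.map_comp _ _).trans ?_
    refine (congrArg (f.map i.hom ≫ ·) ((f.toFunctor.map_comp _ _).trans
      ((congrArg (· ≫ f.map i.inv) hfχ).trans (Category.id_comp _)))).trans ?_
    exact ((f.toFunctor.map_comp _ _).symm.trans (congrArg f.map i.hom_inv_id)).trans (f.toFunctor.map_id _)
  obtain ⟨F, e, he, hP⟩ := hΔ U (FibCat.fpLift x x (Iso.refl _))
  have := hmono F e he hP
  have h := eq_id_of_mono hg e he t ht hft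
  calc χ = i.inv ≫ t ≫ i.hom := by simp [t]
    _ = 𝟙 c := by rw [h]; simp

/-- A stack whose diagonal is representable and locally of finite type, with trivial geometric
stabilisers, is fibred in setoids. -/
theorem isFibSetoid_of_trivGeom (hg : FibCat.IsFibGrpd 𝒳.p)
    (hΔ : AlgSt.RepByAlgSp1 (FibCat.diag (FibCat.toSelf 𝒳))) (hA : AlgSt.HasAtlas (LocP @Smooth) 𝒳)
    (H : TrivGeom 𝒳) : FibCat.IsFibSetoid 𝒳.p := by
  refine ⟨hg, fun U a b => ⟨fun φ ψ => ?_⟩⟩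
  have := fiber_isGroupoid hg U
  suffices key : ∀ (c : 𝒳.p.Fiber U) (χ : c ⟶ c), χ = 𝟙 c by
    have h := key a (φ ≫ inv ψ)
    calc φ = (φ ≫ inv ψ) ≫ ψ := by simp
      _ = ψ := by rw [h, Category.id_comp]
  intro c χ
  apply Functor.Fiber.hom_ext
  refine eq_id_of_rep hg (repByAlgSpWith_lft_diag_toSelf hΔ hA) (fun F e he hlft => ?_) c.1 c.2 χ.1 χ.2 ?_
  · refine mono_of_geomMono F.property _ hlft fun k _ _ u W g s s' t ht hs hs' => ?_
    refine sections_eq e he s s' t hs hs' fun a h ha α hα _ => ?_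
    exact trivAt_of_geom H u ((eqToHom h).left ≫ g) a.hom (by rw [ha, Over.comp_left, ht, Category.assoc]) α hα
  · exact (map_eq_of_isHomLift_id (p := 𝒳.p)
      (isHomLift_id_congr c.2.symm χ.2)).trans (eqToHom_refl _ _)

/-- An unramified diagonal and trivial kernels at geometric points give a faithful functor. -/
theorem faithful_of_trivPt (hg : FibCat.IsFibGrpd 𝒳.p) (hg' : FibCat.IsFibGrpd 𝒴.p) (hDM : AlgSt.IsDMMor f)
    (H : TrivPt f) : f.toFunctor.Faithful := by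
  refine (faithful_iff_trivial_kernel hg hg' f).2 fun c χ hχ hfχ => ?_
  refine eq_id_of_rep hg hDM (fun {U x} F e he hu => ?_) c rfl χ (hχ ▸ IsHomLift.map 𝒳.p χ) hfχ
  refine mono_of_pointMono F.property _ hu fun k _ _ u s s' hs hs' => ?_
  refine sections_eq e he s s' _ hs hs' fun a h ha α hα hfα => ?_
  exact H k (u ≫ U.hom) (x.obj a) ((x.w_obj a).trans h) α (isHomLift_id_congr (x.w_obj a).symm hα) hfα

/-- The diagonal of a stack with an etale atlas is unramified. -/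
theorem isDMOver_of_atlas (hΔ : AlgSt.RepByAlgSp1 (FibCat.diag (FibCat.toSelf 𝒳)))
    (hA : AlgSt.HasAtlas IsEtaleMor 𝒳) : AlgSt.IsDMOver 𝒳 := by
  obtain ⟨U, p, hp, hp'⟩ := hA
  let t := FibCat.toSelf 𝒳
  have het : AlgSt.RepByAlgSpWith (LocP @Etale) p :=
    repByAlgSpWith_mono (fun _ _ _ h => locP_etale_of_isEtaleMor h) hp
  have hunr : AlgSt.RepByAlgSpWith unr p :=
    repByAlgSpWith_mono (fun _ _ _ h => locP_mono (Q := @LocallyOfFiniteType ⊓ @FormallyUnramified)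
      (fun _ _ g (_ : Etale g) => ⟨inferInstanceAs (LocallyOfFiniteType g), inferInstanceAs (FormallyUnramified g)⟩) h) het
  have hsm : AlgSt.RepByAlgSpWith (LocP @Smooth) p :=
    repByAlgSpWith_mono (fun _ _ _ h => locP_mono (fun _ _ g (_ : Etale g) => inferInstanceAs (Smooth g)) h) het
  have hfst : AlgSt.RepByAlgSp1 (FibCat.fpFst (BasedFunctor.comp p t) (BasedFunctor.comp p t)) :=
    repByAlgSp1_fpFst _ (repByAlgSp1_congr (comp_toSelf p) (repByAlgSp1_toSelf_overCat U))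
  have hweak : AlgSt.RepByAlgSpWith unr (weaken p p t) :=
    repByAlgSpWith_of_comp stableBC_locP cancels_unr (repByAlgSp1_iff_top.1 hfst) (repByAlgSpWith_fpFst p hunr)
  have hes := locEssSurj_of_atlas hsm hp'
  exact repByAlgSpWith_of_locEssSurj stableBC_locP isLocalOnBase_unr hΔ (locEssSurj_pairMap t hes hes)
    ((repByAlgSpWith_iff_of_square (f' := weaken p p t) (f := FibCat.fpFst (pairMap p p t) (FibCat.diag t))
      (a := diagComparison p p t) (b := BasedFunctor.id _) (diagComparison_isEquivOver p p t) isEquivOver_id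
      (Iso.refl _)).2 hweak)

theorem isDMMor_of_isDMOver (h : AlgSt.IsDMOver 𝒳) (hΔ : AlgSt.RepByAlgSp1 (FibCat.diag (FibCat.toSelf 𝒴)))
    (f : 𝒳 ⥤ᵇ 𝒴) : AlgSt.IsDMMor f :=
  repByAlgSpWith_diag_of_comp stableBC_locP cancels_unr (repByAlgSp1_iff_top.1 hΔ)
    (repByAlgSpWith_diag_congr (comp_toSelf f) h)

/-- An algebraic stack with trivial geometric stabilisers is an algebraic space. -/
theorem repByAlgSp_of_trivGeom (h : AlgSt.IsAlgStack Scheme.fppfPrecoverage 𝒳) (H : TrivGeom 𝒳) :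
    AlgSt.RepByAlgSp 𝒳 :=
  repByAlgSp_of_isFibSetoid h (isFibSetoid_of_trivGeom h.isStack.1 h.diag h.atlas H)

/-- A stack in setoids for the etale topology with a smooth atlas is an algebraic space. -/
theorem repByAlgSp_of_isFibSetoid_etale (h : AlgSt.IsAlgStack Scheme.etalePrecoverage 𝒳)
    (hs : FibCat.IsFibSetoid 𝒳.p) : AlgSt.RepByAlgSp 𝒳 := by
  let P := clsPsh 𝒳 hs.1
  have hto := toCls_isEquivOver 𝒳 hs.1 hs
  obtain ⟨e, he, -⟩ := isEquivOver_inv hto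
  have hP : Presheaf.IsSheaf (QuotSh.J Scheme.etalePrecoverage S) P := (isSheaf_iff_isSheaf_of_type _ _).2
    ((StkLib.isStack_ofPsh_iff P _).1 ((StkLib.isStack_iff_of_isEquivOver (J := QuotSh.J Scheme.etalePrecoverage S) hto).1
      h.isStack))
  obtain ⟨U, x, hxs, hxj⟩ := h.atlas
  let Φ : AlgSt.ofSch U ⥤ᵇ Stk.ofPsh P := BasedFunctor.comp (BasedFunctor.comp (AlgSt.toOverCat U) x) (toCls 𝒳 hs.1)
  have hs' := repByAlgSpWith_postcomp hto hxs
  have hj' := repByAlgSpWith_postcomp hto hxj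
  let p : ((yon S).obj U).obj ⟶ P := pshMap Φ
  have i : BasedFunctor.comp (AlgSt.toOverCat U) (BasedFunctor.comp x (toCls 𝒳 hs.1)) ≅ Stk.ofPshMap p :=
    isoOfPshMap Φ
  obtain ⟨h', hA⟩ := Groth.Agent.AlgSpDec.isAlgSpaceP_of_smooth_sheaf_space hP
    (U := (yon S).obj U) (IsAlgSpace.yon_obj U) (p := p) (fun T ξ F' fst snd sq => by
      obtain ⟨h₁, hA, hl⟩ := repBySpWith_of_repByAlgSpWith _ (AlgSt.toOverCat U) stableBC_locP
        (isEquivOver_toOverCat U) hs' i ξ fst snd sq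
      obtain ⟨h₂, hA₂, hj⟩ := repBySpWith_of_repByAlgSpWith _ (AlgSt.toOverCat U) stableBC_isSurjectiveMor
        (isEquivOver_toOverCat U) hj' i ξ fst snd sq
      exact ⟨h₁, hA, hj, hl⟩)
  exact ⟨⟨⟨P, h'⟩, hA⟩, e, he⟩

end Groth.Agent.TrivPts49
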