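import Groth.Agent.GrpSchLib.UnramifiedFibre
import Groth.Agent.AssLib.FlatField
import Groth.Agent.AlgSpPts.Descent
import Groth.Agent.AlgSpPts.Misc
import Groth.Agent.QuotLib.Descend
import Groth.Agent.AlgSpLib.EtLocalInst
import Mathlib.AlgebraicGeometry.Morphisms.LocalFlatDescent
import Mathlib.AlgebraicGeometry.Morphisms.Etale
import Mathlib.AlgebraicGeometry.Morphisms.IsIso
import Mathlib.FieldTheory.IsAlgClosed.AlgebraicClosure

/-!
# Morphisms which are monomorphisms on geometric fibres
-/

set_option autoImplicit false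
set_option backward.isDefEq.respectTransparency false
set_option backward.isDefEq.respectTransparency.types false
set_option linter.unusedVariables false

universe u

open CategoryTheory CategoryTheory.Limits Opposite AlgebraicGeometry AlgSp Groth.Agent.AlgSpLib Topology

namespace Groth.Agent.TrivPts49

variable {S : Scheme.{u}} {F : Sp S} {U : Over S}

/-- Sections over schemes over a geometric point with the same image agree. -/
def GeomMono (π : F ⟶ (yon S).obj U) : Prop :=
  ∀ (k : Type u) [Field k] [IsAlgClosed k] (u : Spec (CommRingCat.of k) ⟶ U.left) {W : Over S}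
    (g : W.left ⟶ Spec (CommRingCat.of k)) (s s' : (yon S).obj W ⟶ F) (t : W ⟶ U),
    t.left = g ≫ u → s ≫ π = (yon S).map t → s' ≫ π = (yon S).map t → s = s'

/-- Geometric points with the same image agree. -/
def PointMono (π : F ⟶ (yon S).obj U) : Prop :=
  ∀ (k : Type u) [Field k] [IsAlgClosed k] (u : Spec (CommRingCat.of k) ⟶ U.left)
    (s s' : (yon S).obj (Over.mk (u ≫ U.hom)) ⟶ F),
    s ≫ π = (yon S).map (Over.homMk u rfl) → s' ≫ π = (yon S).map (Over.homMk u rfl) → s = s'

theorem GeomMono.pointMono {π : F ⟶ (yon S).obj U} (H : GeomMono π) : PointMono π :=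
  fun k _ _ u s s' hs hs' => H k u (W := Over.mk (u ≫ U.hom)) (𝟙 _) s s' (Over.homMk u rfl)
    (Category.id_comp u).symm hs hs'

variable {T : Over S} {p : (yon S).obj T ⟶ F} {c : T ⟶ U} {π : F ⟶ (yon S).obj U}

/-- The two projections of the self-intersection of a chart, on schemes, are jointly monic. -/
theorem rel_ext (hp : RepWith @Etale p) {Z : Scheme.{u}} {x x' : Z ⟶ (hp.rep.pullback p).left}
    (h₁ : x ≫ (hp.rep.fst' p).left = x' ≫ (hp.rep.fst' p).left)
    (h₂ : x ≫ (hp.rep.snd p).left = x' ≫ (hp.rep.snd p).left) : x = x' := by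
  have hw : x' ≫ (hp.rep.pullback p).hom = x ≫ (hp.rep.pullback p).hom := by
    rw [← Over.w (hp.rep.snd p), ← Category.assoc, ← h₂, Category.assoc]
  let X : Over.mk (x ≫ (hp.rep.pullback p).hom) ⟶ hp.rep.pullback p := Over.homMk x rfl
  let X' : Over.mk (x ≫ (hp.rep.pullback p).hom) ⟶ hp.rep.pullback p := Over.homMk x' hw
  have e : X = X' := hp.rep.hom_ext' (Over.OverMorphism.ext h₁) (Over.OverMorphism.ext h₂)
  exact congrArg CommaMorphism.left e

theorem rel_w (hp : RepWith @Etale p) (hc : (yon S).map c = p ≫ π) :
    (hp.rep.fst' p).left ≫ c.left = (hp.rep.snd p).left ≫ c.left := by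
  have h : hp.rep.fst' p ≫ c = hp.rep.snd p ≫ c := (yon S).map_injective (by
    rw [Functor.map_comp, Functor.map_comp, hc, ← Category.assoc, ← Category.assoc,
      (hp.rep.isPullback' p).w])
  exact congrArg CommaMorphism.left h

/-- The geometric fibres of a chart are unramified. -/
theorem etale_geomFibre (hp : RepWith @Etale p) (hc : (yon S).map c = p ≫ π)
    (H : GeomMono π) (k : Type u) [Field k] [IsAlgClosed k] (u : Spec (CommRingCat.of k) ⟶ U.left) :
    Etale (pullback.snd c.left u) := by
  let q := pullback.snd c.left u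
  let l₁ := pullback.fst c.left u
  let W : Over S := Over.mk ((pullback.fst q q ≫ q) ≫ u ≫ U.hom)
  let a : W ⟶ T := Over.homMk (pullback.fst q q ≫ l₁) (by
    show (pullback.fst q q ≫ l₁) ≫ T.hom = (pullback.fst q q ≫ q) ≫ u ≫ U.hom
    rw [← Over.w c, Category.assoc, Category.assoc, pullback.condition_assoc (f := c.left) (g := u)])
  let b : W ⟶ T := Over.homMk (pullback.snd q q ≫ l₁) (by
    show (pullback.snd q q ≫ l₁) ≫ T.hom = (pullback.fst q q ≫ q) ≫ u ≫ U.hom
    rw [pullback.condition (f := q) (g := q), ← Over.w c, Category.assoc, Category.assoc,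
      pullback.condition_assoc (f := c.left) (g := u)])
  have hab : (yon S).map a ≫ p = (yon S).map b ≫ p := by
    refine H k u (W := W) (pullback.fst q q ≫ q) _ _ (a ≫ c) ?_ ?_ ?_
    · show (pullback.fst q q ≫ l₁) ≫ c.left = _
      rw [Category.assoc, Category.assoc, pullback.condition (f := c.left) (g := u)]
    · rw [Category.assoc, ← hc, Functor.map_comp]
    · rw [Category.assoc, ← hc, ← Functor.map_comp]
      refine congrArg (yon S).map (Over.OverMorphism.ext ?_)
      show (pullback.snd q q ≫ l₁) ≫ c.left = (pullback.fst q q ≫ l₁) ≫ c.left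
      rw [Category.assoc, Category.assoc, pullback.condition (f := c.left) (g := u),
        pullback.condition_assoc (f := q) (g := q)]
  let m : W ⟶ hp.rep.pullback p := hp.rep.lift' a b hab
  have hm₁ : m.left ≫ (hp.rep.fst' p).left = pullback.fst q q ≫ l₁ := by
    rw [← Over.comp_left, Functor.relativelyRepresentable.lift'_fst]; rfl
  have hm₂ : m.left ≫ (hp.rep.snd p).left = pullback.snd q q ≫ l₁ := by
    rw [← Over.comp_left, Functor.relativelyRepresentable.lift'_snd]; rfl
  have sq : IsPullback m.left (pullback.snd q q) (hp.rep.snd p).left l₁ := by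
    refine ⟨⟨hm₂⟩, ⟨PullbackCone.IsLimit.mk _
      (fun s => pullback.lift (pullback.lift (s.fst ≫ (hp.rep.fst' p).left) (s.snd ≫ q) ?_) s.snd
        (pullback.lift_snd _ _ _)) (fun s => rel_ext hp ?_ ?_)
      (fun s => pullback.lift_snd _ _ _) (fun s n hn₁ hn₂ => pullback.hom_ext (pullback.hom_ext ?_ ?_) ?_)⟩⟩
    · rw [Category.assoc, rel_w hp hc, ← Category.assoc, s.condition, Category.assoc, Category.assoc,
        pullback.condition (f := c.left) (g := u)]
    · rw [Category.assoc, hm₁, pullback.lift_fst_assoc, pullback.lift_fst]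
    · rw [Category.assoc, hm₂, pullback.lift_snd_assoc]
      exact s.condition.symm
    · rw [pullback.lift_fst, pullback.lift_fst, Category.assoc, ← hm₁, reassoc_of% hn₁]
    · rw [pullback.lift_fst, pullback.lift_snd, Category.assoc, pullback.condition (f := q) (g := q),
        reassoc_of% hn₂]
    · rw [hn₂, pullback.lift_snd]
  have het : Etale (pullback.snd q q) := MorphismProperty.of_isPullback (P := @Etale) sq (hp.property_snd p)
  -- descent along an affine open of the fibre
  cases isEmpty_or_nonempty ↥(pullback c.left u) with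
  | inl h => exact inferInstanceAs (Etale q)
  | inr h =>
    obtain ⟨z⟩ := h
    obtain ⟨O, hO, hz, -⟩ :=
      exists_isAffineOpen_mem_and_subset (U := (⊤ : (pullback c.left u).Opens)) (x := z) trivial
    have : CompactSpace ↥O.toScheme := isCompact_iff_compactSpace.1 hO.isCompact
    have hsurj : Surjective (O.ι ≫ q) := ⟨fun v => ⟨⟨z, hz⟩, Subsingleton.elim (α := PrimeSpectrum k) _ _⟩⟩
    have hflat : Flat (O.ι ≫ q) := AssLib.flat_over_field (k := k) (O.ι ≫ q)
    have hqc : QuasiCompact (O.ι ≫ q) := quasiCompact_of_compactSpace _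
    refine MorphismProperty.of_pullback_fst_of_descendsAlong (P := @Etale)
      (Q := @Surjective ⊓ @Flat ⊓ @QuasiCompact) (f := O.ι ≫ q) (g := q) ⟨⟨hsurj, hflat⟩, hqc⟩ ?_
    have sqO : IsPullback (pullback.fst O.ι (pullback.fst q q))
        (pullback.snd O.ι (pullback.fst q q) ≫ pullback.snd q q) (O.ι ≫ q) q :=
      ((IsPullback.of_hasPullback O.ι (pullback.fst q q)).flip.paste_horiz (IsPullback.of_hasPullback q q).flip).flip
    rw [← sqO.isoPullback_inv_fst]
    have het' : Etale (pullback.fst q q) := by
      rw [← pullbackSymmetry_hom_comp_snd]; infer_instance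
    have : Etale (pullback.fst O.ι (pullback.fst q q)) := MorphismProperty.pullback_fst _ _ het'
    infer_instance

/-- A chart of a morphism which is a monomorphism on geometric fibres is unramified. -/
theorem formallyUnramified_chart (hp : RepWith @Etale p) (hc : (yon S).map c = p ≫ π) (H : GeomMono π)
    [LocallyOfFiniteType c.left] : FormallyUnramified c.left := by
  refine GrpSchLib.formallyUnramified_of_fibres c.left fun y => ?_
  let κ := U.left.residueField y
  let k := AlgebraicClosure κ
  let g : Spec (CommRingCat.of k) ⟶ Spec κ := Spec.map (CommRingCat.ofHom (algebraMap κ k))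
  have hg : (@Surjective ⊓ @Flat ⊓ @QuasiCompact : MorphismProperty Scheme.{u}) g :=
    ⟨⟨⟨fun v => ⟨IsLocalRing.closedPoint k, Subsingleton.elim (α := PrimeSpectrum κ) _ _⟩⟩,
      AssLib.flat_over_field (k := κ) g⟩, inferInstanceAs (QuasiCompact g)⟩
  have het := etale_geomFibre hp hc H k (g ≫ U.left.fromSpecResidueField y)
  refine MorphismProperty.of_pullback_fst_of_descendsAlong (P := @FormallyUnramified)
    (Q := @Surjective ⊓ @Flat ⊓ @QuasiCompact) (f := g) (g := c.left.fiberToSpecResidueField y) hg ?_
  have sq₁ : IsPullback (c.left.fiberToSpecResidueField y) (c.left.fiberι y) (U.left.fromSpecResidueField y) c.left :=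
    (IsPullback.of_hasPullback c.left (U.left.fromSpecResidueField y)).flip
  have sq₂ := (IsPullback.of_hasPullback g (c.left.fiberToSpecResidueField y)).paste_vert sq₁
  rw [← IsPullback.isoPullback_hom_snd sq₂.flip]
  have : FormallyUnramified (pullback.snd c.left (g ≫ U.left.fromSpecResidueField y)) :=
    (inferInstance : FormallyUnramified _)
  infer_instance

/-- Two lifts to the chart agreeing in the base agree in the space. -/
theorem isIso_rel (hp : RepWith @Etale p) (hc : (yon S).map c = p ≫ π) (H : PointMono π)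
    [LocallyOfFiniteType c.left] [FormallyUnramified c.left] :
    IsIso (pullback.lift (hp.rep.fst' p).left (hp.rep.snd p).left (rel_w hp hc)) := by
  let ψ := pullback.lift (hp.rep.fst' p).left (hp.rep.snd p).left (rel_w hp hc)
  have : Mono ψ := ⟨fun x x' h => rel_ext hp
    (by simpa [ψ] using congrArg (· ≫ pullback.fst c.left c.left) h)
    (by simpa [ψ] using congrArg (· ≫ pullback.snd c.left c.left) h)⟩
  have : Etale (ψ ≫ pullback.snd c.left c.left) := by
    rw [pullback.lift_snd]; exact hp.property_snd p
  have : FormallyUnramified (pullback.snd c.left c.left) := MorphismProperty.pullback_snd _ _ ‹_›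
  have : Etale ψ := Etale.of_comp ψ (pullback.snd c.left c.left)
  have : IsOpenImmersion ψ := IsOpenImmersion.of_flat_of_mono _
  have : Surjective ψ := ⟨fun z => by
    let P := pullback c.left c.left
    let k := AlgebraicClosure (P.residueField z)
    let j : Spec (CommRingCat.of k) ⟶ P :=
      Spec.map (CommRingCat.ofHom (algebraMap (P.residueField z) k)) ≫ P.fromSpecResidueField z
    let u := j ≫ pullback.fst c.left c.left ≫ c.left
    let W : Over S := Over.mk (u ≫ U.hom)
    let a : W ⟶ T := Over.homMk (j ≫ pullback.fst c.left c.left) (by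
      show (j ≫ pullback.fst c.left c.left) ≫ T.hom = u ≫ U.hom
      rw [← Over.w c]
      simp only [u, Category.assoc])
    let b : W ⟶ T := Over.homMk (j ≫ pullback.snd c.left c.left) (by
      show _ = u ≫ U.hom
      simp only [u, Category.assoc]
      rw [pullback.condition_assoc, Over.w c])
    have hca : a ≫ c = Over.homMk u rfl := Over.OverMorphism.ext (by
      show (j ≫ pullback.fst c.left c.left) ≫ c.left = u
      simp [u])
    have hcb : b ≫ c = Over.homMk u rfl := Over.OverMorphism.ext (by
      show (j ≫ pullback.snd c.left c.left) ≫ c.left = u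
      simp [u, pullback.condition])
    have hab : (yon S).map a ≫ p = (yon S).map b ≫ p :=
      H k u _ _ ((Category.assoc _ _ _).trans ((congrArg (_ ≫ ·) hc.symm).trans
          (((yon S).map_comp _ _).symm.trans (congrArg (yon S).map hca))))
        ((Category.assoc _ _ _).trans ((congrArg (_ ≫ ·) hc.symm).trans
          (((yon S).map_comp _ _).symm.trans (congrArg (yon S).map hcb))))
    let m : W ⟶ hp.rep.pullback p := hp.rep.lift' a b hab
    have hm₁ : m.left ≫ (hp.rep.fst' p).left = j ≫ pullback.fst c.left c.left := by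
      rw [← Over.comp_left, Functor.relativelyRepresentable.lift'_fst]; rfl
    have hm₂ : m.left ≫ (hp.rep.snd p).left = j ≫ pullback.snd c.left c.left := by
      rw [← Over.comp_left, Functor.relativelyRepresentable.lift'_snd]; rfl
    have hmψ : m.left ≫ ψ = j := pullback.hom_ext (by simp [ψ, hm₁]) (by simp [ψ, hm₂])
    refine ⟨m.left (IsLocalRing.closedPoint k), ?_⟩
    refine ((Scheme.Hom.comp_apply m.left ψ _).symm.trans (congrArg (fun t => t (IsLocalRing.closedPoint k)) hmψ)).trans ?_
    exact (Scheme.Hom.comp_apply (Spec.map _) (P.fromSpecResidueField z) _).trans (P.fromSpecResidueField_apply z _)⟩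
  exact (isIso_iff_isOpenImmersion_and_surjective ψ).2 ⟨‹_›, ‹_›⟩

/-- A morphism locally of finite type from an algebraic space to a scheme which is a monomorphism on geometric
fibres is a monomorphism. -/
theorem mono_of_chart (hp : RepWith @Etale p) (hps : RepWith @Surjective p) (hc : (yon S).map c = p ≫ π)
    [LocallyOfFiniteType c.left] [FormallyUnramified c.left] (H : PointMono π) : Mono π := by
  have := isIso_rel hp hc H
  -- lifts to the chart with the same image agree in the space
  have key : ∀ {W : Over S} (a b : W ⟶ T), a ≫ c = b ≫ c → (yon S).map a ≫ p = (yon S).map b ≫ p := by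
    intro W a b h
    let ψ := pullback.lift (hp.rep.fst' p).left (hp.rep.snd p).left (rel_w hp hc)
    have hw : a.left ≫ c.left = b.left ≫ c.left := congrArg CommaMorphism.left h
    let m₀ := pullback.lift a.left b.left hw ≫ inv ψ
    have hψ₁ : inv ψ ≫ (hp.rep.fst' p).left = pullback.fst c.left c.left := by
      rw [IsIso.inv_comp_eq]; simp [ψ]
    have hψ₂ : inv ψ ≫ (hp.rep.snd p).left = pullback.snd c.left c.left := by
      rw [IsIso.inv_comp_eq]; simp [ψ]
    let m : W ⟶ hp.rep.pullback p := Over.homMk m₀ (by
      rw [← Over.w (hp.rep.snd p), ← Over.w b]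
      simp only [m₀, Category.assoc]
      rw [reassoc_of% hψ₂, pullback.lift_snd_assoc])
    have ha : m ≫ hp.rep.fst' p = a := Over.OverMorphism.ext (by
      show m₀ ≫ _ = _; simp [m₀, hψ₁])
    have hb : m ≫ hp.rep.snd p = b := Over.OverMorphism.ext (by
      show m₀ ≫ _ = _; simp [m₀, hψ₂])
    rw [← ha, ← hb, Functor.map_comp, Functor.map_comp, Category.assoc, Category.assoc, (hp.rep.isPullback' p).w]
  have hinj : ∀ {W : Over S} (s s' : (yon S).obj W ⟶ F), s ≫ π = s' ≫ π → s = s' := by
    intro W s s' h
    let w₁ : hp.rep.pullback s ⟶ W := hp.rep.snd s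
    let s₁ := (yon S).map w₁ ≫ s'
    let w₂ : hp.rep.pullback s₁ ⟶ hp.rep.pullback s := hp.rep.snd s₁
    let a : hp.rep.pullback s₁ ⟶ T := w₂ ≫ hp.rep.fst' s
    let b : hp.rep.pullback s₁ ⟶ T := hp.rep.fst' s₁
    have ha : (yon S).map a ≫ p = (yon S).map (w₂ ≫ w₁) ≫ s := by
      simp only [a, w₁, Functor.map_comp, Category.assoc]
      rw [(hp.rep.isPullback' s).w]
    have hb : (yon S).map b ≫ p = (yon S).map (w₂ ≫ w₁) ≫ s' := by
      rw [Functor.map_comp, Category.assoc]
      exact (hp.rep.isPullback' s₁).w
    have hab := key a b ((yon S).map_injective (by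
      rw [Functor.map_comp (yon S) a c, Functor.map_comp (yon S) b c, hc, ← Category.assoc, ← Category.assoc, ha, hb,
        Category.assoc, Category.assoc, h]))
    rw [ha, hb] at hab
    have hw : fppf (w₂ ≫ w₁).left := by
      have : Etale w₁.left := hp.property_snd s
      have : Etale w₂.left := hp.property_snd s₁
      have : Surjective w₁.left := hps.2 s _ _ (hp.rep.isPullback s)
      have : Surjective w₂.left := hps.2 s₁ _ _ (hp.rep.isPullback s₁)
      rw [Over.comp_left]
      exact ⟨⟨inferInstanceAs (Surjective (w₂.left ≫ w₁.left)), inferInstanceAs (Flat (w₂.left ≫ w₁.left))⟩,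
        inferInstanceAs (LocallyOfFinitePresentation (w₂.left ≫ w₁.left))⟩
    have hFs := QuotLib.isSheafFor_singleton_fppf F (w₂ ≫ w₁) hw
    apply (J S).uliftYonedaEquiv.{u + 1}.injective
    refine hFs.isSeparatedFor.ext fun Z f hf => ?_
    cases hf
    rw [GrothendieckTopology.uliftYonedaEquiv_naturality, GrothendieckTopology.uliftYonedaEquiv_naturality]
    exact congrArg _ hab
  refine (sheafToPresheaf (J S) (Type (u + 1))).mono_of_mono_map
    (@NatTrans.mono_of_mono_app _ _ _ _ _ _ _ fun W => ?_)
  refine (CategoryTheory.mono_iff_injective _).2 fun x y hxy => ?_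
  obtain ⟨s, rfl⟩ := (J S).uliftYonedaEquiv.{u + 1}.surjective x
  obtain ⟨s', rfl⟩ := (J S).uliftYonedaEquiv.{u + 1}.surjective y
  refine congrArg _ (hinj s s' ((J S).uliftYonedaEquiv.{u + 1}.injective ?_))
  rw [GrothendieckTopology.uliftYonedaEquiv_comp, GrothendieckTopology.uliftYonedaEquiv_comp]
  exact hxy

theorem mono_of_geomMono (hF : IsAlgSpace F) (π : F ⟶ (yon S).obj U) (hl : LocP @LocallyOfFiniteType π)
    (H : GeomMono π) : Mono π := by
  obtain ⟨T, p, hp, hps⟩ := hF.atlas
  obtain ⟨c, hc⟩ := (yon S).map_surjective (p ≫ π)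
  have : LocallyOfFiniteType c.left := hl p (𝟙 _) c hp (repWith_id _ U) (by rw [Category.comp_id, hc])
  have := formallyUnramified_chart hp hc H
  exact mono_of_chart hp hps hc H.pointMono

/-- An unramified morphism from an algebraic space to a scheme which is injective on geometric points is a
monomorphism. -/
theorem mono_of_pointMono (hF : IsAlgSpace F) (π : F ⟶ (yon S).obj U)
    (hl : LocP (@LocallyOfFiniteType ⊓ @FormallyUnramified) π) (H : PointMono π) : Mono π := by
  obtain ⟨T, p, hp, hps⟩ := hF.atlas
  obtain ⟨c, hc⟩ := (yon S).map_surjective (p ≫ π)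
  obtain ⟨h1, h2⟩ := hl p (𝟙 _) c hp (repWith_id _ U) (by rw [Category.comp_id, hc])
  have : LocallyOfFiniteType c.left := h1
  have : FormallyUnramified c.left := h2
  exact mono_of_chart hp hps hc H

end Groth.Agent.TrivPts49
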